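import Mathlib

/-!
# The contradiction from (PS) at 7, for S5745 (helper440)
-/

set_option autoImplicit false
set_option linter.unusedSectionVars false

namespace Cfsg.Agent.H440.EPX

variable {G : Type*} [Group G]

theorem conj_pow_eq {g y : G} (hg : g * y * g⁻¹ = y ^ 3) (j : ℕ) : g ^ j * y * (g ^ j)⁻¹ = y ^ (3 ^ j) := by
  induction j with
  | zero => simp
  | succ j ih =>
    calc g ^ (j + 1) * y * (g ^ (j + 1))⁻¹ = g * (g ^ j * y * (g ^ j)⁻¹) * g⁻¹ := by rw [pow_succ']; group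
      _ = (g * y * g⁻¹) ^ (3 ^ j) := by rw [ih, conj_pow]
      _ = _ := by rw [hg, ← pow_mul, pow_succ']

/-- one element of order 3 -/
theorem key {H : Subgroup G} {y g x : G} (hgH : g ∈ H) (hy : orderOf y = 7) (hg : g * y * g⁻¹ = y ^ 3)
    (hC : ∀ c ∈ H, c * y = y * c → c ^ 14 = 1)
    (PS : ∀ x, x ∉ H → x * y = y * x → ∃ u ∈ H, x⁻¹ * u * x ∈ H ∧ (∃ k : ℕ, u * y * u⁻¹ = y ^ k) ∧ u * y ≠ y * u)
    (hinv : ∀ c, c * y = y * c → c ^ 2 = 1 → c = 1) (h3 : x ^ 3 = 1) (hxy : x * y = y * x)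
    (hcen : ∀ c, c * y = y * c → c * x = x * c) : Commute (g ^ 2) x ∨ Commute (g ^ 3) x := by
  have hy7 : y ^ 7 = 1 := by rw [← hy]; exact pow_orderOf_eq_one y
  have hmod : ∀ a b : ℕ, a % 7 = b % 7 → y ^ a = y ^ b := by
    intro a b h
    rw [pow_inj_mod, hy, h]
  by_cases hx : x ∈ H
  · left
    have h1 := hC x hx hxy
    have h2 : x = 1 := by
      calc x = (x ^ 3) ^ 5 * (x ^ 14)⁻¹ := by group
        _ = 1 := by rw [h3, h1]; simp
    rw [h2]
    exact Commute.one_right _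
  obtain ⟨u, huH, hux, ⟨k, hk⟩, hne⟩ := PS x hx hxy
  -- the exponents
  obtain ⟨j, i, hj, hkj, hki⟩ : ∃ j i : ℕ, (j = 1 ∨ j = 2 ∨ j = 3 ∨ j = 4 ∨ j = 5) ∧ y ^ k = y ^ (3 ^ j) ∧
      y ^ (k * i) = y ^ 1 := by
    have h7 : k % 7 < 7 := Nat.mod_lt _ (by norm_num)
    obtain ⟨r, hr⟩ : ∃ r, k % 7 = r := ⟨_, rfl⟩
    rw [hr] at h7
    interval_cases r
    · exfalso
      rw [hmod k 0 (by omega), pow_zero, mul_inv_eq_one] at hk
      have h1 : y = 1 := by simpa using hk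
      rw [h1, orderOf_one] at hy
      omega
    · exfalso
      rw [hmod k 1 (by omega), pow_one, mul_inv_eq_iff_eq_mul] at hk
      exact hne hk
    · exact ⟨2, 4, by omega, hmod _ _ (by omega), hmod _ _ (by omega)⟩
    · exact ⟨1, 5, by omega, hmod _ _ (by omega), hmod _ _ (by omega)⟩
    · exact ⟨4, 2, by omega, hmod _ _ (by omega), hmod _ _ (by omega)⟩
    · exact ⟨5, 3, by omega, hmod _ _ (by omega), hmod _ _ (by omega)⟩
    · exact ⟨3, 6, by omega, hmod _ _ (by omega), hmod _ _ (by omega)⟩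
  rw [pow_one] at hki
  -- the commutator
  have hui : u * y ^ i * u⁻¹ = y := by rw [← conj_pow, hk, ← pow_mul, hki]
  have hxi : x * y ^ i = y ^ i * x := ((show Commute x y from hxy).pow_right i).eq
  have hyx : x⁻¹ * y = y * x⁻¹ := ((show Commute x y from hxy).inv_left).eq
  set c := x⁻¹ * u * x * u⁻¹ with hc
  have hcH : c ∈ H := H.mul_mem hux (H.inv_mem huH)
  have hcy : c * y = y * c := by
    calc c * y = x⁻¹ * u * x * (u⁻¹ * y * u) * u⁻¹ := by rw [hc]; group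
      _ = x⁻¹ * u * x * (u⁻¹ * (u * y ^ i * u⁻¹) * u) * u⁻¹ := by rw [hui]
      _ = x⁻¹ * u * (x * y ^ i) * u⁻¹ := by group
      _ = x⁻¹ * (u * y ^ i * u⁻¹) * u * x * u⁻¹ := by rw [hxi]; group
      _ = x⁻¹ * y * u * x * u⁻¹ := by rw [hui]
      _ = y * c := by rw [hyx, hc]; group
  have hc7 : c ^ 7 = 1 := by
    refine hinv _ ((show Commute c y from hcy).pow_left 7).eq ?_
    rw [← pow_mul]
    exact hC c hcH hcy
  have hcx : Commute c x := hcen c hcy
  have huc : u * x * u⁻¹ = x * c := by rw [hc]; group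
  have hc3 : c ^ 3 = 1 := by
    have h1 : (u * x * u⁻¹) ^ 3 = 1 := by rw [conj_pow, h3]; group
    rw [huc, hcx.symm.mul_pow, h3, one_mul] at h1
    exact h1
  have hc1 : c = 1 := by
    calc c = c ^ 7 * (c ^ 3)⁻¹ * (c ^ 3)⁻¹ := by group
      _ = 1 := by rw [hc7, hc3]; simp
  have hux' : Commute u x := by
    rw [hc1, mul_one] at huc
    exact mul_inv_eq_iff_eq_mul.1 huc
  -- the element `g ^ j`
  have hd : ((g ^ j)⁻¹ * u) * y = y * ((g ^ j)⁻¹ * u) := by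
    have h1 := conj_pow_eq hg j
    rw [← hkj, ← hk] at h1
    have h2 : (g ^ j)⁻¹ * (u * y * u⁻¹) * g ^ j = y := by rw [← h1]; group
    calc ((g ^ j)⁻¹ * u) * y = (g ^ j)⁻¹ * (u * y * u⁻¹) * g ^ j * ((g ^ j)⁻¹ * u) := by group
      _ = _ := by rw [h2]
  have hdx : Commute ((g ^ j)⁻¹ * u) x := hcen _ hd
  have hgj : Commute (g ^ j) x := by
    have h1 : g ^ j = u * ((g ^ j)⁻¹ * u)⁻¹ := by group
    rw [h1]
    exact hux'.mul_left hdx.inv_left
  have hg6 : Commute (g ^ 6) x := by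
    refine hcen _ ?_
    have h1 := conj_pow_eq hg 6
    rw [hmod (3 ^ 6) 1 (by norm_num), pow_one] at h1
    exact mul_inv_eq_iff_eq_mul.1 h1
  rcases hj with rfl | rfl | rfl | rfl | rfl
  · left
    rw [pow_one] at hgj
    exact hgj.pow_left 2
  · exact Or.inl hgj
  · exact Or.inr hgj
  · left
    have h1 : g ^ 2 = g ^ 6 * (g ^ 4)⁻¹ := by group
    rw [h1]
    exact hg6.mul_left hgj.inv_left
  · left
    have h1 : g = g ^ 6 * (g ^ 5)⁻¹ := by group
    have h2 : Commute g x := by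
      rw [h1]
      exact hg6.mul_left hgj.inv_left
    exact h2.pow_left 2

/-- **The contradiction.** -/
theorem kill {H : Subgroup G} {y g x1 x2 : G} (hgH : g ∈ H) (hy : orderOf y = 7) (hg : g * y * g⁻¹ = y ^ 3)
    (hC : ∀ c ∈ H, c * y = y * c → c ^ 14 = 1)
    (PS : ∀ x, x ∉ H → x * y = y * x → ∃ u ∈ H, x⁻¹ * u * x ∈ H ∧ (∃ k : ℕ, u * y * u⁻¹ = y ^ k) ∧ u * y ≠ y * u)
    (h1 : x1 ^ 3 = 1) (h2 : x2 ^ 3 = 1) (c1 : y * x1 = x1 * y) (c2 : y * x2 = x2 * y) (c12 : x1 * x2 = x2 * x1)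
    (hcen : ∀ c, c * y = y * c → (c ^ 2 = 1 → c = 1) ∧ c * x1 = x1 * c ∧ c * x2 = x2 * c)
    (hn : ∀ (v : G) (m : ℕ), v * x1 = x1 * v → v * x2 = x2 * v → v * y = y ^ m * v → v * y = y * v) : False := by
  have k1 := key hgH hy hg hC PS (fun c h => (hcen c h).1) h1 c1.symm fun c h => (hcen c h).2.1
  have k2 := key hgH hy hg hC PS (fun c h => (hcen c h).1) h2 c2.symm fun c h => (hcen c h).2.2
  have h12 : Commute x1 x2 := c12
  have k3 := key (x := x1 * x2) hgH hy hg hC PS (fun c h => (hcen c h).1) (by rw [h12.mul_pow, h1, h2, one_mul])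
    ((show Commute x1 y from c1.symm).mul_left (show Commute x2 y from c2.symm)).eq
    fun c h => ((show Commute c x1 from (hcen c h).2.1).mul_right (show Commute c x2 from (hcen c h).2.2)).eq
  -- cancelling
  have q2 : ∀ {a : G}, Commute a x1 → Commute a (x1 * x2) → Commute a x2 := by
    intro a ha hb
    have : x2 = x1⁻¹ * (x1 * x2) := by group
    rw [this]
    exact ha.inv_right.mul_right hb
  have q1 : ∀ {a : G}, Commute a x2 → Commute a (x1 * x2) → Commute a x1 := by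
    intro a ha hb
    have : x1 = x1 * x2 * x2⁻¹ := by group
    rw [this]
    exact hb.mul_right ha.inv_right
  have hfin : (Commute (g ^ 2) x1 ∧ Commute (g ^ 2) x2) ∨ (Commute (g ^ 3) x1 ∧ Commute (g ^ 3) x2) := by
    rcases k1 with k1 | k1 <;> rcases k2 with k2 | k2 <;> rcases k3 with k3 | k3
    · exact Or.inl ⟨k1, k2⟩
    · exact Or.inl ⟨k1, k2⟩
    · exact Or.inl ⟨k1, q2 k1 k3⟩
    · exact Or.inr ⟨q1 k2 k3, k2⟩
    · exact Or.inl ⟨q1 k2 k3, k2⟩
    · exact Or.inr ⟨k1, q2 k1 k3⟩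
    · exact Or.inr ⟨k1, k2⟩
    · exact Or.inr ⟨k1, k2⟩
  have fin : ∀ j : ℕ, Commute (g ^ j) x1 → Commute (g ^ j) x2 → 3 ^ j % 7 = 1 := by
    intro j ha hb
    have e1 := conj_pow_eq hg j
    have e2 := hn (g ^ j) (3 ^ j) ha hb (mul_inv_eq_iff_eq_mul.1 e1)
    rw [mul_inv_eq_of_eq_mul e2] at e1
    have e3 : y ^ 1 = y ^ 3 ^ j := by rw [pow_one]; exact e1
    rw [pow_inj_mod, hy] at e3
    exact e3.symm
  rcases hfin with ⟨a, b⟩ | ⟨a, b⟩
  · have := fin 2 a b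
    norm_num at this
  · have := fin 3 a b
    norm_num at this

end Cfsg.Agent.H440.EPX
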